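import Mathlib
import Cfsg.Prelude.Def_FusionSystem
import Cfsg.Prelude.Def_FusionComponents
import Cfsg.Prelude.Def_FusionReduction

/-!
# S5201 tail (design helper6): shared hypothesis bundle (`Lib/OLS`).

Situation at the END of the chain of S5202 (`OLR.main_ind`): `G` saturated over the finite `p`-group `R = T C_R(T)`,
`E` normal in `G` over `T`, `Aut_G(T) = Aut_E(T)`, and the centralizer hypothesis of S5201 (`cen`).
Goal of the directory: `SameLim p G E` (then S5201 follows by `lim_unique`).
-/

set_option autoImplicit false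

namespace Cfsg.Agent.Helper6.OLS

open Cfsg Cfsg.FusionSystem

variable {Ω : Type*} [Group Ω]

/-- The hypotheses at the end of the chain. -/
structure Tail (p : ℕ) {R : Subgroup Ω} (G : FusionSystem R) {T : Subgroup Ω} (E : FusionSystem T) : Prop where
  pg : IsPGroup p R
  sat : G.IsSaturated p
  nor : E.IsNormalIn G p
  gen : R ≤ T ⊔ centralizerIn R T
  aut : G.autGroup T = E.autGroup T
  cen : ∀ Y : Subgroup Ω, Y ≤ centralizerIn R T →
    (∀ P : Subgroup Ω, E.Hom P ⊆ G.centralizerHom Y P) → Y ≤ T

theorem Tail.T_le {p : ℕ} {R : Subgroup Ω} {G : FusionSystem R} {T : Subgroup Ω} {E : FusionSystem T}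
    (h : Tail p G E) : T ≤ R :=
  h.nor.1.2.2.2.1.1

theorem Tail.closed {p : ℕ} {R : Subgroup Ω} {G : FusionSystem R} {T : Subgroup Ω} {E : FusionSystem T}
    (h : Tail p G E) : G.StronglyClosed T :=
  h.nor.1.2.2.2.1

end Cfsg.Agent.Helper6.OLS
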