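import Mathlib
import Cfsg.Agent.Lib.OLS.OLSDefs
import Cfsg.Agent.Lib.Helper25.Fusion
import Cfsg.Agent.Lib.Helper25.FusionProduct3

/-!
# OLS-EXTB (S5201 tail): the extension clause of `E ⊴ G`, read on `R = T C_R(T)` itself.

`T` is strongly closed in `G` (`h.closed`), so `g` maps `T` into `T`. `Helper25.exists_aut_of_hom`
gives `α ∈ G.autGroup T` with `(α t : Ω) = g t`. By `h.aut`, `α ∈ E.autGroup T`. The extension clause `h.nor.2 α hα` gives
`β ∈ G.autGroup (T ⊔ centralizerIn R T)` with `β = α` on `T` and `c⁻¹ β(c) ∈ T ⊓ centralizer T` for `c ∈ C_R(T)`.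
Take `b := β` restricted to `Q ≤ R ≤ T ⊔ centralizerIn R T`.
Aux names prefixed `olsextb_`.
-/

set_option autoImplicit false

namespace Cfsg.Agent.Helper6.OLS

open Cfsg Cfsg.FusionSystem Cfsg.Agent.Helper25

variable {Ω : Type*} [Group Ω]

theorem exists_ext {R : Subgroup Ω} [Finite R] (p : ℕ) [Fact p.Prime] (G : FusionSystem R) {T : Subgroup Ω}
    (E : FusionSystem T) (h : Tail p G E) {Q : Subgroup Ω} (g : Q →* Ω) (hg : g ∈ G.Hom Q) (hRQ : R ≤ Q) :
    ∃ b : Q →* Ω, b ∈ G.Hom Q ∧ (∀ x : Q, b x ∈ Q) ∧ (∀ t : Q, (t : Ω) ∈ T → b t = g t) ∧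
      ∀ c : Q, (c : Ω) ∈ centralizerIn R T →
        (c : Ω)⁻¹ * b c ∈ T ⊓ Subgroup.centralizer (T : Set Ω) := by
  have hQR : Q ≤ R := (G.le_of_mem hg).1
  have hTR : T ≤ R := h.T_le
  have hTQ : T ≤ Q := hTR.trans hRQ
  have hVR : T ⊔ centralizerIn R T ≤ R := sup_le hTR inf_le_left
  have hQV : Q ≤ T ⊔ centralizerIn R T := hQR.trans h.gen
  have hgT : g.comp (Subgroup.inclusion hTQ) ∈ G.Hom T := restrict_mem G hTQ hg
  have hgTval : ∀ t : T, (g.comp (Subgroup.inclusion hTQ)) t ∈ T :=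
    fun t => h.closed.2 T le_rfl _ hgT t
  obtain ⟨α, hα, hαg⟩ := exists_aut_of_hom G hgT hgTval
  have hαE : α ∈ E.autGroup T := by
    rw [← h.aut]
    exact hα
  obtain ⟨β, hβ, hβT, hβC⟩ := h.nor.2 α hαE
  have hβG := (mem_autGroup_iff G hVR β).1 hβ
  refine ⟨((T ⊔ centralizerIn R T).subtype.comp β.toMonoidHom).comp (Subgroup.inclusion hQV),
    restrict_mem G hQV hβG, ?_, ?_, ?_⟩
  · intro x
    exact hRQ (hVR (β (Subgroup.inclusion hQV x)).2)
  · intro t ht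
    show ((β (Subgroup.inclusion hQV t) : ↥(T ⊔ centralizerIn R T)) : Ω) = g t
    have e : Subgroup.inclusion hQV t = Subgroup.inclusion le_sup_left (⟨(t : Ω), ht⟩ : T) :=
      Subtype.ext rfl
    rw [e, hβT, hαg]
    rfl
  · intro c hc
    exact hβC (Subgroup.inclusion hQV c) hc

end Cfsg.Agent.Helper6.OLS
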