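import Mathlib
import Cfsg.Agent.Lib.OLS.OLSDefs
import Cfsg.Agent.S5293

/-!
# OLS-FOC (S5201 tail): the focal subgroup of `C_G(T)` lies in `T`.

RECIPE (EASY). `Cfsg.Agent.S5293.result p h.pg G h.sat E h.nor C rfl D hD : D.focalSubgroup ≤ C` with
`C := sSup {X | X ≤ centralizerIn R T ∧ ∀ P, E.Hom P ⊆ G.centralizerHom X P}`; then `sSup_le` and `h.cen X hX.1 hX.2`.
Keep the statement, name, namespace exactly (you may add imports); aux names prefixed `olsfoc_`.
-/

set_option autoImplicit false

namespace Cfsg.Agent.Helper6.OLS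

open Cfsg Cfsg.FusionSystem

variable {Ω : Type*} [Group Ω]

theorem foc_le {R : Subgroup Ω} [Finite R] (p : ℕ) [Fact p.Prime] (G : FusionSystem R) {T : Subgroup Ω}
    (E : FusionSystem T) (h : Tail p G E) (D : FusionSystem (centralizerIn R T))
    (hD : G.IsCentralizerSystem T D) : D.focalSubgroup ≤ T := by
  refine le_trans (Cfsg.Agent.S5293.result p h.pg G h.sat E h.nor _ rfl D hD) ?_
  apply sSup_le
  intro X hX
  exact h.cen X hX.1 hX.2

end Cfsg.Agent.Helper6.OLS
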