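import Mathlib
import Cfsg.Agent.Lib.OLS.OLSDefs
import Cfsg.Agent.Lib.OLS.OLSFoc
import Cfsg.Agent.S5097
import Cfsg.Agent.Lib.Helper25.Fusion

/-!
# OLS-FIXT (S5201 tail): a map of `G` fixing `T` pointwise moves every `c ∈ C_R(T)` only inside `cT`.

RECIPE (MEDIUM). Let `P := Q ⊓ centralizerIn R T` and `φ₀ := φ.comp (Subgroup.inclusion inf_le_left) : P →* Ω`.
Obtain `⟨D, hD⟩ := Cfsg.Agent.S5097.result G T h.T_le` (the centralizer system `C_G(T)` over `centralizerIn R T`).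
CLAIM `φ₀ ∈ G.centralizerHom T P` (unfold `centralizerHom`): (1) `φ₀ ∈ G.Hom P` by `Helper25.restrict_mem`;
(2) `P ≤ centralizerIn R T` by `inf_le_right`; (3) values: `φ c ∈ R` by `(G.le_of_mem hφ).2`, and `φ c` commutes with each `t ∈ T`:
`φ c * t = φ c * φ t = φ (c * t) = φ (t * c) = t * φ c` (`hfix`, `c` centralizes `T`; `centralizerIn R T = R ⊓ Subgroup.centralizer T`,
`Subgroup.mem_centralizer_iff`); (4) `ψ := φ.comp (Subgroup.inclusion (sup_le inf_le_left hTQ)) ∈ G.Hom (P ⊔ T)` (restrict_mem),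
agrees with `φ₀` on `P` and fixes `T` (`hfix`).
Then `φ₀ ∈ D.Hom P` (`hD P ▸`), so `(c:Ω)⁻¹ * φ₀ ⟨c, _⟩` is a generator of `D.focalSubgroup` (`Subgroup.subset_closure ⟨P, φ₀, ⟨c,_⟩, _, rfl⟩`),
and `foc_le p G E h D hD` finishes.
Keep the statement, name, namespace exactly (you may add imports); aux names prefixed `olsfixt_`.
-/

set_option autoImplicit false

namespace Cfsg.Agent.Helper6.OLS

open Cfsg Cfsg.FusionSystem Cfsg.Agent.Helper25

variable {Ω : Type*} [Group Ω]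

theorem fixT_mem {R : Subgroup Ω} [Finite R] (p : ℕ) [Fact p.Prime] (G : FusionSystem R) {T : Subgroup Ω}
    (E : FusionSystem T) (h : Tail p G E) {Q : Subgroup Ω} (φ : Q →* Ω) (hφ : φ ∈ G.Hom Q) (hTQ : T ≤ Q)
    (hfix : ∀ t : Q, (t : Ω) ∈ T → φ t = (t : Ω)) :
    ∀ c : Q, (c : Ω) ∈ centralizerIn R T → (c : Ω)⁻¹ * φ c ∈ T := by
  intro c hc
  obtain ⟨D, hD⟩ := Cfsg.Agent.S5097.result G T h.T_le
  have hPQ : Q ⊓ centralizerIn R T ≤ Q := inf_le_left
  have hφ0 : φ.comp (Subgroup.inclusion hPQ) ∈ G.Hom (Q ⊓ centralizerIn R T) :=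
    restrict_mem G hPQ hφ
  have hcent : φ.comp (Subgroup.inclusion hPQ) ∈ G.centralizerHom T (Q ⊓ centralizerIn R T) := by
    refine ⟨hφ0, inf_le_right, ?_, ?_⟩
    · intro x
      rw [mem_centralizerIn]
      refine ⟨(G.le_of_mem hφ).2 _, fun t ht => ?_⟩
      have hx := (mem_centralizerIn.mp x.2.2).2 t ht
      have ht' : φ ⟨t, hTQ ht⟩ = t := hfix ⟨t, hTQ ht⟩ ht
      show t * φ (Subgroup.inclusion hPQ x) = φ (Subgroup.inclusion hPQ x) * t
      have e : (⟨t, hTQ ht⟩ : Q) * Subgroup.inclusion hPQ x =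
          Subgroup.inclusion hPQ x * ⟨t, hTQ ht⟩ := Subtype.ext hx
      calc t * φ (Subgroup.inclusion hPQ x)
          = φ ⟨t, hTQ ht⟩ * φ (Subgroup.inclusion hPQ x) := by rw [ht']
        _ = φ (⟨t, hTQ ht⟩ * Subgroup.inclusion hPQ x) := (map_mul φ _ _).symm
        _ = φ (Subgroup.inclusion hPQ x * ⟨t, hTQ ht⟩) := by rw [e]
        _ = φ (Subgroup.inclusion hPQ x) * φ ⟨t, hTQ ht⟩ := map_mul φ _ _
        _ = φ (Subgroup.inclusion hPQ x) * t := by rw [ht']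
    · refine ⟨φ.comp (Subgroup.inclusion (sup_le inf_le_left hTQ)),
        restrict_mem G (sup_le inf_le_left hTQ) hφ, fun x => rfl, fun t => ?_⟩
      show φ (Subgroup.inclusion (sup_le inf_le_left hTQ) (Subgroup.inclusion le_sup_right t)) = _
      exact hfix _ t.2
  have hDmem : φ.comp (Subgroup.inclusion hPQ) ∈ D.Hom (Q ⊓ centralizerIn R T) := by
    rw [hD]; exact hcent
  apply foc_le p G E h D hD
  apply Subgroup.subset_closure
  have hcP : (c : Ω) ∈ Q ⊓ centralizerIn R T := ⟨c.2, hc⟩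
  exact ⟨Q ⊓ centralizerIn R T, φ.comp (Subgroup.inclusion hPQ), ⟨(c : Ω), hcP⟩, hDmem, rfl⟩

end Cfsg.Agent.Helper6.OLS
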