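import Mathlib
import Cfsg.Agent.Lib.OLS.OLSDefs
import Cfsg.Agent.Lib.OLS.OLSFixT
import Cfsg.Agent.Lib.OLS.OLSExtB
import Cfsg.Agent.Lib.Helper25.Fusion
import Cfsg.Agent.Lib.Helper25.FusionAut
import Cfsg.Agent.Lib.Helper25.FusionInvariant
import Cfsg.Agent.Lib.Helper25.FusionProduct3

/-!
# OLS-AUTT (S5201 tail): every `G`-automorphism of `R = T C_R(T)` acts trivially on `R/T`.

(1) `T` is strongly closed (`h.closed`): for `t ∈ T`, `g t ∈ T`.
(2) For `c ∈ C_R(T)`: `exists_ext` gives `b`; `b` is onto `Q`, `b'` its inverse. `k : x ↦ b' (g x)` fixes `T` pointwise, so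
`fixT_mem` gives `c⁻¹ k(c) =: τ ∈ T`. Apply `b`: `g c = b (c τ) = b c * b τ`, with `c⁻¹ b(c) ∈ T` and `b τ = g τ ∈ T`.
(3) General `x ∈ Q`: the set `{x | x⁻¹ g(x) ∈ T}` is a subgroup since `T` is normalized by `R`; it contains `T` and `C_R(T)`.
Aux names prefixed `olsautt_`.
-/

set_option autoImplicit false

namespace Cfsg.Agent.Helper6.OLS

open Cfsg Cfsg.FusionSystem Cfsg.Agent.Helper25

variable {Ω : Type*} [Group Ω]

theorem olsautt_T_normal {R : Subgroup Ω} {G : FusionSystem R} {T : Subgroup Ω}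
    (hT : G.StronglyClosed T) {y τ : Ω} (hy : y ∈ R) (hτ : τ ∈ T) : y * τ * y⁻¹ ∈ T :=
  (Subgroup.mem_normalizer_iff.mp (mem_normalizer_of_stronglyClosed hT hy) τ).mp hτ

theorem aut_comm_mem {R : Subgroup Ω} [Finite R] (p : ℕ) [Fact p.Prime] (G : FusionSystem R) {T : Subgroup Ω}
    (E : FusionSystem T) (h : Tail p G E) {Q : Subgroup Ω} (g : Q →* Ω) (hg : g ∈ G.Hom Q) (hRQ : R ≤ Q) :
    ∀ x : Q, (x : Ω)⁻¹ * g x ∈ T := by
  classical
  have hQR : Q ≤ R := (G.le_of_mem hg).1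
  have hTR : T ≤ R := h.T_le
  have hTQ : T ≤ Q := hTR.trans hRQ
  have hCQ : centralizerIn R T ≤ Q := (inf_le_left : centralizerIn R T ≤ R).trans hRQ
  haveI : Finite Q :=
    Finite.of_injective (Subgroup.inclusion hQR) (Subgroup.inclusion_injective hQR)
  have hgQ : ∀ x : Q, g x ∈ Q := fun x => hRQ ((G.le_of_mem hg).2 x)
  -- (1)
  have hT1 : ∀ t : Q, (t : Ω) ∈ T → g t ∈ T := by
    intro t ht
    have hgT : g.comp (Subgroup.inclusion hTQ) ∈ G.Hom T := restrict_mem G hTQ hg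
    exact h.closed.2 T le_rfl _ hgT ⟨(t : Ω), ht⟩
  -- (2)
  have hC1 : ∀ c : Q, (c : Ω) ∈ centralizerIn R T → (c : Ω)⁻¹ * g c ∈ T := by
    intro c hc
    obtain ⟨b, hb, hbQ, hbT, hbc⟩ := exists_ext p G E h g hg hRQ
    have hbinj := G.injective_of_mem hb
    have hrange : b.range = Q := by
      apply range_eq_of_le hbinj
      rintro _ ⟨x, rfl⟩
      exact hbQ x
    obtain ⟨b', hb', hb'inv, -⟩ := exists_inv G hb hrange
    have hk : b'.comp (g.codRestrict Q hgQ) ∈ G.Hom Q := G.comp_mem hg hb' hgQ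
    have hk_apply : ∀ x : Q, (b'.comp (g.codRestrict Q hgQ)) x = b' ⟨g x, hgQ x⟩ := fun x => rfl
    have hkfix : ∀ t : Q, (t : Ω) ∈ T → (b'.comp (g.codRestrict Q hgQ)) t = (t : Ω) := by
      intro t ht
      rw [hk_apply]
      have e : (⟨g t, hgQ t⟩ : Q) = ⟨b t, hbQ t⟩ := Subtype.ext (hbT t ht).symm
      rw [e]
      exact hb'inv t _
    have hτ := fixT_mem p G E h _ hk hTQ hkfix c hc
    rw [hk_apply] at hτ
    have hgc : g c ∈ b.range := by
      rw [hrange]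
      exact hgQ c
    obtain ⟨y, hy⟩ := hgc
    have e : (⟨g c, hgQ c⟩ : Q) = ⟨b y, hbQ y⟩ := Subtype.ext hy.symm
    rw [e, hb'inv y _] at hτ
    have hτ' : ((c⁻¹ * y : Q) : Ω) ∈ T := by
      rw [Subgroup.coe_mul, Subgroup.coe_inv]
      exact hτ
    have hgc2 : g c = b c * g (c⁻¹ * y) := by
      rw [← hbT (c⁻¹ * y) hτ', ← map_mul, mul_inv_cancel_left, hy]
    rw [hgc2, ← mul_assoc]
    exact T.mul_mem (hbc c hc).1 (hT1 _ hτ')
  -- (3) the subgroup of good elements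
  let HQ : Subgroup Q :=
    { carrier := {x | (x : Ω)⁻¹ * g x ∈ T}
      one_mem' := by
        show ((1 : Q) : Ω)⁻¹ * g 1 ∈ T
        rw [map_one, Subgroup.coe_one, inv_one, one_mul]
        exact T.one_mem
      mul_mem' := by
        intro x y hx hy
        show ((x * y : Q) : Ω)⁻¹ * g (x * y) ∈ T
        have e : ((x * y : Q) : Ω)⁻¹ * g (x * y)
            = ((y : Ω)⁻¹ * ((x : Ω)⁻¹ * g x) * ((y : Ω)⁻¹)⁻¹) * ((y : Ω)⁻¹ * g y) := by
          rw [Subgroup.coe_mul, map_mul]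
          group
        rw [e]
        exact T.mul_mem (olsautt_T_normal h.closed (R.inv_mem (hQR y.2)) hx) hy
      inv_mem' := by
        intro x hx
        show ((x⁻¹ : Q) : Ω)⁻¹ * g x⁻¹ ∈ T
        have e : ((x⁻¹ : Q) : Ω)⁻¹ * g x⁻¹ = (x : Ω) * ((x : Ω)⁻¹ * g x)⁻¹ * (x : Ω)⁻¹ := by
          rw [Subgroup.coe_inv, map_inv]
          group
        rw [e]
        exact olsautt_T_normal h.closed (hQR x.2) (T.inv_mem hx) }
  have htop : HQ = ⊤ := by
    rw [eq_top_iff]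
    have h1 : T.subgroupOf Q ⊔ (centralizerIn R T).subgroupOf Q = ⊤ := by
      rw [← Subgroup.subgroupOf_sup hTQ hCQ, Subgroup.subgroupOf_eq_top]
      exact hQR.trans h.gen
    rw [← h1]
    apply sup_le
    · intro t ht
      exact T.mul_mem (T.inv_mem (Subgroup.mem_subgroupOf.mp ht))
        (hT1 t (Subgroup.mem_subgroupOf.mp ht))
    · intro c hc
      exact hC1 c (Subgroup.mem_subgroupOf.mp hc)
  intro x
  have hx : x ∈ HQ := by
    rw [htop]
    exact Subgroup.mem_top x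
  exact hx

end Cfsg.Agent.Helper6.OLS
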