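import Mathlib
import Cfsg.Agent.Lib.OLS.OLSDefs
import Cfsg.Agent.Lib.OLS.OLSAutT
import Cfsg.Agent.Lib.Helper25.Fusion

/-!
# OLS-QAUT (S5201 tail): the factor system `G/T` lives over an abelian group and has no nontrivial automorphism of the whole group.

`hQ : G.IsFactorSystem T θ Q` unfolds to `T ≤ R ∧ (∀ s : R, θ s = 1 ↔ (s:Ω) ∈ T) ∧ θ.range = S' ∧ ∀ P' φ', φ' ∈ Q.Hom P' ↔ P' ≤ S' ∧ ∃ φ ∈ G.Hom (preimageAlong θ P'), InducedAlong θ φ φ'`.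

RECIPE (MEDIUM). Key tool: `aut_comm_mem p G E h g hg hRQ : ∀ x : Q₀, (x:Ω)⁻¹ * g x ∈ T` for `g ∈ G.Hom Q₀`, `R ≤ Q₀`.
(A) commutativity: `a = θ r`, `b = θ s` (`θ.range = S'`). `conjHom R (r:Ω) ∈ G.Hom R` (`G.conj_mem le_rfl r.2`), so
`s⁻¹ * (r * s * r⁻¹) ∈ T`, i.e. `θ (s⁻¹ * r * s * r⁻¹) = 1` by the kernel clause, whence `θ r * θ s = θ s * θ r`.
(B) `φ' ∈ Q.Hom S'`: get `φ ∈ G.Hom (preimageAlong θ S')` with `InducedAlong θ φ φ'` = `⟨hP, hφR, hP', hind⟩`.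
`R ≤ preimageAlong θ S'` (`preimageAlong θ S' = (S'.comap θ).map R.subtype`, and `S'.comap θ = ⊤` since `θ.range = S'`).
For `x : S'`, `x = θ r`; `r' := ⟨r, _⟩ : preimageAlong θ S'`; `hind r' : φ' ⟨θ ⟨r',_⟩, _⟩ = θ ⟨φ r', _⟩`; `aut_comm_mem` gives
`r⁻¹ * φ r' ∈ T`, so `θ r = θ ⟨φ r', _⟩` (kernel clause: `θ (r⁻¹ * φ r') = 1`). Hence `φ' x = x`.
Keep the statement, name, namespace exactly (you may add imports); aux names prefixed `olsqaut_`.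
-/

set_option autoImplicit false

namespace Cfsg.Agent.Helper6.OLS

open Cfsg Cfsg.FusionSystem Cfsg.Agent.Helper25

variable {Ω : Type*} [Group Ω]

theorem factor_aut_trivial {R : Subgroup Ω} [Finite R] (p : ℕ) [Fact p.Prime] (G : FusionSystem R)
    {T : Subgroup Ω} (E : FusionSystem T) (h : Tail p G E) {Ω' : Type*} [Group Ω'] {S' : Subgroup Ω'}
    (θ : ↥R →* Ω') (Q : FusionSystem S') (hQ : G.IsFactorSystem T θ Q) :
    (∀ a ∈ S', ∀ b ∈ S', a * b = b * a) ∧ ∀ φ' ∈ Q.Hom S', ∀ x : S', φ' x = (x : Ω') := by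
  obtain ⟨hTR, hker, hrange, hhom⟩ := hQ
  have hθeq : ∀ a b : R, (a : Ω)⁻¹ * (b : Ω) ∈ T → θ a = θ b := by
    intro a b hab
    have h1 : θ (a⁻¹ * b) = 1 := (hker (a⁻¹ * b)).mpr hab
    rw [map_mul, map_inv, inv_mul_eq_one] at h1
    exact h1
  constructor
  · intro a ha b hb
    rw [← hrange] at ha hb
    obtain ⟨r, rfl⟩ := ha
    obtain ⟨s, rfl⟩ := hb
    have hc := aut_comm_mem p G E h (conjHom R (r : Ω)) (G.conj_mem le_rfl r.2) le_rfl s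
    have h1 : θ s = θ (r * s * r⁻¹) := hθeq s (r * s * r⁻¹) hc
    rw [map_mul, map_mul, map_inv] at h1
    calc θ r * θ s = θ r * θ s * (θ r)⁻¹ * θ r := by group
      _ = θ s * θ r := by rw [← h1]
  · intro φ' hφ' x
    obtain ⟨-, φ, hφ, hP, hφR, hP', hind⟩ := (hhom S' φ').mp hφ'
    have hRle : R ≤ preimageAlong θ S' := by
      intro r hr
      refine ⟨⟨r, hr⟩, ?_, rfl⟩
      show θ ⟨r, hr⟩ ∈ S'
      rw [← hrange]
      exact ⟨_, rfl⟩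
    have hx : (x : Ω') ∈ θ.range := by
      rw [hrange]
      exact x.2
    obtain ⟨r, hr⟩ := hx
    have hc := aut_comm_mem p G E h φ hφ hRle ⟨r, hRle r.2⟩
    have h1 : θ r = θ ⟨φ ⟨r, hRle r.2⟩, hφR _⟩ := hθeq r ⟨_, hφR _⟩ hc
    have h2 := hind ⟨r, hRle r.2⟩
    have e : x = ⟨θ ⟨((⟨(r : Ω), hRle r.2⟩ : preimageAlong θ S') : Ω), hP (hRle r.2)⟩, hP' _⟩ := by
      apply Subtype.ext
      rw [← hr]
    rw [e, h2, ← h1]

end Cfsg.Agent.Helper6.OLS
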