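import Mathlib
import Cfsg.Prelude.Def_FusionSystem
import Cfsg.Agent.Lib.Helper25.Fusion

/-!
# OLS-QHYP (S5201 tail): a system all of whose maps are inclusions has trivial hyperfocal subgroup.

RECIPE (EASY). `unfold hyperfocalSubgroup`; `Subgroup.closure_eq_bot_iff`/`(Subgroup.closure_le _).2` into `⊥`: a generator is
`y = x⁻¹ * (α x)` with `P ≤ S'`, `α : Q.autGroup P`; by `(Helper25.mem_autGroup_iff Q hP α).1 α.2 : P.subtype.comp α.toMonoidHom ∈ Q.Hom P`
and `h` applied to it, `((α x : P) : Ω') = x`, so `y = 1`.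
Keep the statement, name, namespace exactly (you may add imports); aux names prefixed `olsqhyp_`.
-/

set_option autoImplicit false

namespace Cfsg.Agent.Helper6.OLS

open Cfsg Cfsg.FusionSystem Cfsg.Agent.Helper25

theorem hyp_eq_bot_of_trivial {Ω' : Type*} [Group Ω'] {S' : Subgroup Ω'} (p : ℕ) (Q : FusionSystem S')
    (h : ∀ (P' : Subgroup Ω') (φ' : P' →* Ω'), φ' ∈ Q.Hom P' → ∀ x : P', φ' x = (x : Ω')) :
    Q.hyperfocalSubgroup p = ⊥ := by
  unfold FusionSystem.hyperfocalSubgroup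
  rw [Subgroup.closure_eq_bot_iff]
  rintro y ⟨P, α, x, hP, -, rfl⟩
  have hmem : P.subtype.comp (α : MulAut P).toMonoidHom ∈ Q.Hom P :=
    (mem_autGroup_iff Q hP (α : MulAut P)).1 α.2
  have hx := h P _ hmem x
  have hx' : (((α : MulAut P) x : P) : Ω') = (x : Ω') := hx
  rw [Set.mem_singleton_iff, hx', inv_mul_cancel]

end Cfsg.Agent.Helper6.OLS
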