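import Mathlib
import Cfsg.Prelude.Def_FusionSystem
import Cfsg.Agent.Lib.Helper25.Fusion
import Cfsg.Agent.Lib.Helper25.FusionAut

/-!
# OLS-QTRIV (S5201 tail): a saturated system over an ABELIAN group whose only automorphism of the whole group is the identity
has only inclusions as maps. (Pure fusion-system lemma, general ambient group.)

RECIPE (MEDIUM-LONG). Let `φ' ∈ Q.Hom P'`, `P' ≤ S'` (`Q.le_of_mem`). Saturation `hQ P' _` gives `X` with `Q.IsConj P' X`
(`⟨ψ, hψ, hψr : ψ.range = X⟩`), `X` receptive. STEP 1: for ANY `χ ∈ Q.Hom P` with `χ.range = X`: `extender S' P χ = S'`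
(`≤`: `Subgroup.closure_le` and the generators lie in `S'`; `≥`: every `g ∈ S'` is a generator with `h := 1`, since `S'` is abelian:
`g x g⁻¹ = x` for `x ∈ P ≤ S'`, and `g` normalizes `P`). Receptivity gives `χ̃ ∈ Q.Hom (extender S' P χ)` extending `χ`; transport to
`Q.Hom S'` (`Helper25.restrict_mem` along `S' ≤ extender …`), so by `haut` it is the inclusion, hence `χ x = x` for all `x ∈ P`.
STEP 2: apply STEP 1 to `ψ` (so `ψ x = x`, `X = P'`) and to `χ := ψ ∘ φ'⁻¹ : φ'.range → X`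
(`Helper25.exists_inv Q hφ' rfl` gives the inverse `φ'.range → P'`; compose with `ψ` by `Helper25.comp_mem'`; its range is `X`).
Then for `x ∈ P'`: `χ (φ' x) = ψ x = x` and `χ (φ' x) = φ' x` by STEP 1. Hence `φ' x = x`.
Keep the statement, name, namespace exactly (you may add imports); aux names prefixed `olsqtriv_`.
-/

set_option autoImplicit false

namespace Cfsg.Agent.Helper6.OLS

open Cfsg Cfsg.FusionSystem Cfsg.Agent.Helper25

theorem olsqtriv_step {Ω' : Type*} [Group Ω'] {S' : Subgroup Ω'}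
    (Q : FusionSystem S')
    (hab : ∀ a ∈ S', ∀ b ∈ S', a * b = b * a)
    (haut : ∀ φ ∈ Q.Hom S', ∀ x : S', φ x = (x : Ω'))
    {P X : Subgroup Ω'} (hX : Q.IsReceptive X) {χ : P →* Ω'} (hχ : χ ∈ Q.Hom P)
    (hr : χ.range = X) : ∀ x : P, χ x = (x : Ω') := by
  have hPS : P ≤ S' := (Q.le_of_mem hχ).1
  have hle : S' ≤ extender S' P χ := by
    intro g hg
    apply Subgroup.subset_closure
    have hcomm : ∀ x ∈ P, g * x * g⁻¹ = x := by
      intro x hx
      rw [hab g hg x (hPS hx), mul_inv_cancel_right]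
    refine ⟨hg, ?_, 1, S'.one_mem, ?_⟩
    · rw [Subgroup.mem_normalizer_iff]
      intro x
      constructor
      · intro hx
        rw [hcomm x hx]; exact hx
      · intro hx
        have h1 : x = g⁻¹ * (g * x * g⁻¹) * g := by group
        rw [h1, hab g⁻¹ (S'.inv_mem hg) _ (hPS hx), inv_mul_cancel_right]
        exact hx
    · intro x hx
      have h2 : (⟨g * (x : Ω') * g⁻¹, hx⟩ : P) = x := Subtype.ext (hcomm x x.2)
      rw [h2, one_mul, inv_one, mul_one]
  obtain ⟨ψ, hψ, hψe⟩ := hX.2 P χ hχ hr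
  have hres : ψ.comp (Subgroup.inclusion hle) ∈ Q.Hom S' := restrict_mem Q hle hψ
  intro x
  have h3 := haut _ hres ⟨x, hPS x.2⟩
  have h4 := hψe x x.2 (hle (hPS x.2))
  have h5 : (ψ.comp (Subgroup.inclusion hle)) ⟨x, hPS x.2⟩ = ψ ⟨x, hle (hPS x.2)⟩ := rfl
  rw [h5, h4] at h3
  exact h3

theorem hom_eq_id_of_abelian {Ω' : Type*} [Group Ω'] {S' : Subgroup Ω'} [Finite S'] (p : ℕ)
    (Q : FusionSystem S') (hQ : Q.IsSaturated p)
    (hab : ∀ a ∈ S', ∀ b ∈ S', a * b = b * a)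
    (haut : ∀ φ ∈ Q.Hom S', ∀ x : S', φ x = (x : Ω')) :
    ∀ (P' : Subgroup Ω') (φ' : P' →* Ω'), φ' ∈ Q.Hom P' → ∀ x : P', φ' x = (x : Ω') := by
  intro P' φ' hφ' x
  have hPS : P' ≤ S' := (Q.le_of_mem hφ').1
  obtain ⟨X, ⟨ψ, hψ, hψr⟩, -, hrec⟩ := hQ P' hPS
  have h1 := olsqtriv_step Q hab haut hrec hψ hψr
  have hXP : X = P' := by
    rw [← hψr]
    ext y
    constructor
    · rintro ⟨z, rfl⟩
      rw [h1 z]; exact z.2
    · intro hy
      exact ⟨⟨y, hy⟩, h1 ⟨y, hy⟩⟩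
  subst hXP
  obtain ⟨θ, hθ, hθi, hθr⟩ := exists_inv Q hφ' rfl
  have h2 := olsqtriv_step Q hab haut hrec hθ hθr
  have h3 := hθi x ⟨x, rfl⟩
  rw [h2] at h3
  exact h3

end Cfsg.Agent.Helper6.OLS
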