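import Mathlib
import Cfsg.Agent.Lib.OLS.OLSDefs
import Cfsg.Agent.Lib.OLS.OLSQTriv
import Cfsg.Agent.Lib.OLS.OLSQHyp
import Cfsg.Agent.Lib.OLS.OLSQAut
import Cfsg.Agent.Lib.Helper25.FusionSolv
import Cfsg.Agent.Lib.Helper25.FusionHyp
import Cfsg.Agent.S5132
import Cfsg.Agent.S5133
import Cfsg.Agent.S5134
import Cfsg.Agent.S5256

/-!
# OLS-HYPLE (S5201 tail): `hyp(G) ≤ T` (assembly of the quotient argument).
-/

set_option autoImplicit false

namespace Cfsg.Agent.Helper6.OLS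

open Cfsg Cfsg.FusionSystem Cfsg.Agent.Helper25

variable {Ω : Type*} [Group Ω]

theorem hyp_le {R : Subgroup Ω} [Finite R] (p : ℕ) [Fact p.Prime] (G : FusionSystem R) {T : Subgroup Ω}
    (E : FusionSystem T) (h : Tail p G E) : G.hyperfocalSubgroup p ≤ T := by
  have hT : G.StronglyClosed T := h.closed
  haveI hn : (T.subgroupOf R).Normal := Cfsg.Agent.Helper25.Solv.normal_of_stronglyClosed hT
  obtain ⟨Q, hQ⟩ := Cfsg.Agent.S5132.result p h.pg G T hT
  have hsurj := Cfsg.Agent.S5134.result p h.pg G h.sat T hT (QuotientGroup.mk' (T.subgroupOf R)) Q hQ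
  have hQsat : Q.IsSaturated p :=
    Cfsg.Agent.S5133.result p h.pg G h.sat Q (QuotientGroup.mk' (T.subgroupOf R)) hsurj
  obtain ⟨hab, haut⟩ := factor_aut_trivial p G E h (QuotientGroup.mk' (T.subgroupOf R)) Q hQ
  have htriv := hom_eq_id_of_abelian p Q hQsat hab haut
  have hbot := hyp_eq_bot_of_trivial p Q htriv
  have h56 := Cfsg.Agent.S5256.result p h.pg G h.sat T hT (QuotientGroup.mk' (T.subgroupOf R)) Q hQ
  rw [hbot] at h56
  intro x hx
  have hxR : x ∈ R := hyperfocalSubgroup_le G p hx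
  have hmem : (QuotientGroup.mk' (T.subgroupOf R)) ⟨x, hxR⟩ ∈
      ((G.hyperfocalSubgroup p).subgroupOf R).map (QuotientGroup.mk' (T.subgroupOf R)) :=
    Subgroup.mem_map_of_mem _ (Subgroup.mem_subgroupOf.2 hx)
  rw [← h56, Subgroup.mem_bot] at hmem
  have := (QuotientGroup.eq_one_iff (N := T.subgroupOf R) ⟨x, hxR⟩).1 hmem
  exact Subgroup.mem_subgroupOf.1 this

end Cfsg.Agent.Helper6.OLS
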