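import Mathlib
import Cfsg.Agent.Lib.OLS.OLSDefs
import Cfsg.Agent.Lib.OLR.OLRDefs
import Cfsg.Agent.Lib.OLR.OLRLim
import Cfsg.Agent.Lib.Helper25.FusionSolv
import Cfsg.Agent.Lib.Helper3.PPrimeRes
import Cfsg.Agent.S5113
import Cfsg.Agent.S5120
import Cfsg.Agent.S5199
import Cfsg.Agent.S5142

/-!
# OLS-PIDX (S5201 tail): once `hyp(G) ≤ T`, `G` and `E` have the same residual limits.

RECIPE (MEDIUM, pure assembly). `hT := h.closed`, `hTR := h.T_le`, `haveI : Finite T` (`Helper25.finite_of_le_finite hTR` or `Finite.of_injective`),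
`hTp : IsPGroup p T := h.pg.to_le hTR`.
(1) `⟨G₁, ⟨hG₁s, hG₁i⟩, -⟩ := Cfsg.Agent.S5113.result p h.pg G h.sat T hTR hhyp` : `G₁` over `T`, saturated, `G₁.HasPPowerIndexIn G p`.
(2) `hG₁n : G₁.IsNormalIn G p := Cfsg.Agent.S5120.result p h.pg G h.sat T hTR (Cfsg.Agent.Helper25.Solv.normal_of_stronglyClosed hT) hhyp G₁ hG₁s hG₁i`.
(3) `hEG₁ : E.IsSubsystemOf G₁ := Cfsg.Agent.S5199.result p h.pg G h.sat E h.nor G₁ hG₁n (sup_le le_rfl hhyp) hG₁i`.
(4) `D := Helper3.PPrimeRes.minSys G₁ p`, `hD : G₁.IsPPrimeResidual p D := Helper3.PPrimeRes.minSys_isPPrimeResidual p hTp G₁ hG₁s`;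
    `hDE : D.IsSubsystemOf E := Cfsg.Agent.S5142.result p h.pg G h.sat G₁ hG₁n D hD E h.nor`.
(5) `E.HasPrimeToPIndexIn G₁ p := ⟨hEG₁, fun P hP => (hD.2.1.2 P hP).trans (autGroup mono D ≤ E)⟩` where `D.autGroup P ≤ E.autGroup P` comes from `hDE`
    via `Helper25.mem_autGroup_iff` (cf. `OLR.autGroup_mono` in `Lib/OLR/OLRMain.lean`; copy its 4 lines, do not import OLRMain).
(6) `OLR.sameLim_pPower p h.pg G h.sat G₁ hG₁s hT hG₁i : SameLim p G G₁` and `OLR.sameLim_pPrime p hTp G₁ E hG₁s h.nor.1.1 (5) : SameLim p G₁ E`;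
    conclude with `SameLim.trans`.
Keep the statement, name, namespace exactly (you may add imports); aux names prefixed `olspidx_`.
-/

set_option autoImplicit false

namespace Cfsg.Agent.Helper6.OLS

open Cfsg Cfsg.FusionSystem Cfsg.Agent.Helper25 Cfsg.Agent.Helper3.OLR

variable {Ω : Type*} [Group Ω]

theorem sameLim_tail {R : Subgroup Ω} [Finite R] (p : ℕ) [Fact p.Prime] (G : FusionSystem R) {T : Subgroup Ω}
    (E : FusionSystem T) (h : Tail p G E) (hhyp : G.hyperfocalSubgroup p ≤ T) : SameLim p G E := by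
  have hT := h.closed
  have hTR := h.T_le
  have : Finite T := Cfsg.Agent.Helper25.finite_of_le_finite hTR
  have hTp : IsPGroup p T := h.pg.to_le hTR
  obtain ⟨G₁, ⟨hG₁s, hG₁i⟩, -⟩ := Cfsg.Agent.S5113.result p h.pg G h.sat T hTR hhyp
  have hG₁n : G₁.IsNormalIn G p :=
    Cfsg.Agent.S5120.result p h.pg G h.sat T hTR
      (Cfsg.Agent.Helper25.Solv.normal_of_stronglyClosed hT) hhyp G₁ hG₁s hG₁i
  have hEG₁ : E.IsSubsystemOf G₁ :=
    Cfsg.Agent.S5199.result p h.pg G h.sat E h.nor G₁ hG₁n (sup_le le_rfl hhyp) hG₁i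
  have hD : G₁.IsPPrimeResidual p (Cfsg.Agent.Helper3.PPrimeRes.minSys G₁ p) :=
    Cfsg.Agent.Helper3.PPrimeRes.minSys_isPPrimeResidual p hTp G₁ hG₁s
  have hDE : (Cfsg.Agent.Helper3.PPrimeRes.minSys G₁ p).IsSubsystemOf E :=
    Cfsg.Agent.S5142.result p h.pg G h.sat G₁ hG₁n _ hD E h.nor
  have h5 : E.HasPrimeToPIndexIn G₁ p := by
    refine ⟨hEG₁, fun P hP => (hD.2.1.2 P hP).trans ?_⟩
    intro α hα
    rw [mem_autGroup_iff E hP]
    exact hDE P ((mem_autGroup_iff _ hP α).mp hα)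
  have h6 : SameLim p G G₁ := sameLim_pPower p h.pg G h.sat G₁ hG₁s hT hG₁i
  have h7 : SameLim p G₁ E := sameLim_pPrime p hTp G₁ E hG₁s h.nor.1.1 h5
  intro V W
  exact (h6 W).trans (h7 W)

end Cfsg.Agent.Helper6.OLS
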