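import Mathlib
import Cfsg.Agent.Lib.OLS.OLSDefs
import Cfsg.Agent.Lib.OLR.OLRDefs
import Cfsg.Agent.Lib.Helper25.Fusion

/-!
# OLS-TAILOF (S5201 tail): the last stage of the chain of S5202 satisfies the hypotheses `Tail`.

RECIPE (MEDIUM-EASY). Write `R := T ⊔ centralizerIn S T`. `hst.le : R ≤ S`.
* `pg := hS.to_le hst.le`, `sat := hst.sat`, `nor := hst.nor`, `aut := hA`.
* `gen`: `centralizerIn S T ≤ centralizerIn R T` (an element of `S ⊓ centralizer T` lies in `R` by `le_sup_right`), so `R ≤ T ⊔ centralizerIn R T` by `sup_le_sup_left`.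
* `cen`: given `Y ≤ centralizerIn R T` and `hY : ∀ P, E.Hom P ⊆ F₀.centralizerHom Y P`, apply `hCE Y (Y ≤ centralizerIn S T, as R ≤ S) (fun C hC P φ hφ => ?_)`:
  `hC P : C.Hom P = F.centralizerHom Y P`, and `F₀.centralizerHom Y P ⊆ F.centralizerHom Y P` because `F₀` is a subsystem of `F` (`hst.inv.1`) and
  `centralizerIn R Y ≤ centralizerIn S Y` (unfold `centralizerHom`: the four components `φ ∈ Hom`, `P ≤ centralizerIn _ Y`, values, extension `ψ` transfer one by one).
Keep the statement, name, namespace exactly (you may add imports); aux names prefixed `olstailof_`.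
-/

set_option autoImplicit false

namespace Cfsg.Agent.Helper6.OLS

open Cfsg Cfsg.FusionSystem Cfsg.Agent.Helper25 Cfsg.Agent.Helper3.OLR

variable {Ω : Type*} [Group Ω]

theorem tail_of_stage {S : Subgroup Ω} [Finite S] (p : ℕ) [Fact p.Prime] (hS : IsPGroup p S)
    (F : FusionSystem S) {T : Subgroup Ω} (E : FusionSystem T)
    (hCE : ∀ Y : Subgroup Ω, Y ≤ centralizerIn S T →
      (∀ C : FusionSystem (centralizerIn S Y), F.IsCentralizerSystem Y C → E.IsSubsystemOf C) → Y ≤ T)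
    (F₀ : FusionSystem (T ⊔ centralizerIn S T)) (hst : Stage p F E F₀)
    (hA : F₀.autGroup T = E.autGroup T) : Tail p F₀ E := by
  have hRS : T ⊔ centralizerIn S T ≤ S := hst.le
  have hsub : F₀.IsSubsystemOf F := hst.inv.1
  refine ⟨hS.to_le hRS, hst.sat, hst.nor, ?_, hA, ?_⟩
  · apply sup_le_sup_left
    intro x hx
    exact ⟨Subgroup.mem_sup_right hx, hx.2⟩
  · intro Y hY hEY
    apply hCE Y
    · intro y hy
      exact ⟨hRS (hY hy).1, (hY hy).2⟩
    · intro C hC P φ hφ
      rw [hC P]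
      obtain ⟨h1, h2, h3, ψ, hψ, hψ1, hψ2⟩ := hEY P hφ
      refine ⟨hsub P h1, ?_, ?_, ψ, hsub _ hψ, hψ1, hψ2⟩
      · intro x hx
        exact ⟨hRS (h2 hx).1, (h2 hx).2⟩
      · intro x
        exact ⟨hRS (h3 x).1, (h3 x).2⟩

end Cfsg.Agent.Helper6.OLS
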